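import Cfsg.Agent.H122.MinDeg
import Mathlib.LinearAlgebra.Trace
import Cfsg.Agent.H123.AltRow_m3
import Cfsg.Agent.KFacts.J2.Facts
import Cfsg.Agent.J2Type.Cent5
import Cfsg.Agent.J2Type.Order
import Cfsg.Agent.H603.SporElim
import Cfsg.Agent.FastGrp
import Cfsg.Agent.Prune
set_option linter.all false
prune_inst 0x7f00000000000000000000000000000000000000000000000000000000000000000000000000000000000000000000000000000000000000000000000000000000000000000000000000000000000000003fffffffffffffffffffffffffffbeffbdffffffff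
open scoped Cfsg.Agent.FastGrp

-- part: H635/CJ/Four
section
/-!
# A lower bound for the degrees from a four-group centralized by `A₅` (helper635)
-/

set_option autoImplicit false

namespace Cfsg.Agent.H635.CJ

open Module Cfsg.Agent.H122

section idem

variable {M : Type} [AddCommGroup M] [Module ℂ M] [FiniteDimensional ℂ M]

theorem trace_idem {P : End ℂ M} (hP : P * P = P) : LinearMap.trace ℂ M P = (finrank ℂ (LinearMap.range P) : ℂ) := by
  have h : LinearMap.IsProj (LinearMap.range P) P := by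
    refine ⟨fun x => ⟨x, rfl⟩, ?_⟩
    rintro _ ⟨y, rfl⟩
    exact congrArg (fun f : End ℂ M => f y) hP
  exact h.trace

theorem eq_one_of_trace {Z : End ℂ M} (hZ : Z * Z = 1) (ht : LinearMap.trace ℂ M Z = finrank ℂ M) : Z = 1 := by
  let P : End ℂ M := (2⁻¹ : ℂ) • (1 - Z)
  have hP : P * P = P := by
    show ((2⁻¹ : ℂ) • (1 - Z)) * ((2⁻¹ : ℂ) • (1 - Z)) = (2⁻¹ : ℂ) • (1 - Z)
    rw [smul_mul_smul_comm]
    have h1 : (1 - Z) * (1 - Z) = (2 : ℂ) • (1 - Z) := by
      rw [mul_sub, sub_mul, sub_mul, hZ, one_mul, one_mul, mul_one, two_smul]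
      abel
    rw [h1, smul_smul]
    norm_num
  have h1 := trace_idem hP
  have h2 : LinearMap.trace ℂ M P = 0 := by
    show LinearMap.trace ℂ M ((2⁻¹ : ℂ) • (1 - Z)) = 0
    rw [map_smul, map_sub, ht, LinearMap.trace_one, sub_self, smul_zero]
  rw [h2] at h1
  have h3 : finrank ℂ (LinearMap.range P) = 0 := by exact_mod_cast h1.symm
  have h4 : LinearMap.range P = ⊥ := Submodule.finrank_eq_zero.1 h3
  have h5 : P = 0 := LinearMap.range_eq_bot.1 h4
  have h6 : (2 : ℂ) • P = 1 - Z := by
    show (2 : ℂ) • ((2⁻¹ : ℂ) • (1 - Z)) = 1 - Z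
    rw [smul_smul]
    norm_num
  rw [h5, smul_zero] at h6
  exact (sub_eq_zero.1 h6.symm).symm

/-- a group without small representations acts trivially on the small pieces -/
theorem mul_eq_of_small {K : Type*} [Group K] {b : ℕ} (hK : MinDeg K b) (σ : Representation ℂ K M) {P : End ℂ M}
    (hc : ∀ k, σ k * P = P * σ k) (hd : finrank ℂ (LinearMap.range P) < b) (k : K) :
    σ k * P = P := by
  by_contra hk
  have hinv : ∀ (k : K) (x : M), x ∈ LinearMap.range P → σ k x ∈ LinearMap.range P := by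
    rintro k _ ⟨y, rfl⟩
    exact ⟨σ k y, (congrArg (fun f : End ℂ M => f y) (hc k)).symm⟩
  let τ : Representation ℂ K (LinearMap.range P) :=
    { toFun := fun k => (σ k).restrict (hinv k)
      map_one' := by
        ext x
        show σ 1 (x : M) = x
        rw [map_one]
        rfl
      map_mul' := fun k l => by
        ext x
        show σ (k * l) (x : M) = σ k (σ l x)
        rw [map_mul]
        rfl }
  have h1 := hK (LinearMap.range P) τ ⟨k, fun h => hk (by
    ext x
    have h2 := congrArg (fun f : LinearMap.range P →ₗ[ℂ] LinearMap.range P => ((f ⟨P x, x, rfl⟩ : _) : M)) h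
    exact h2)⟩
  omega

end idem

theorem idem4 {R : Type*} [Ring R] [Algebra ℂ R] {A B : R} (hA : A * A = 1) (hB : B * B = 1) (hAB : A * B = B * A)
    {e d : ℂ} (he : e * e = 1) (hd : d * d = 1) :
    ((4⁻¹ : ℂ) • ((1 + e • A) * (1 + d • B))) * ((4⁻¹ : ℂ) • ((1 + e • A) * (1 + d • B))) =
      (4⁻¹ : ℂ) • ((1 + e • A) * (1 + d • B)) := by
  have h1 : (1 + e • A) * (1 + e • A) = (2 : ℂ) • (1 + e • A) := by
    rw [mul_add, add_mul, add_mul, smul_mul_smul_comm, hA, he, one_mul, mul_one, one_mul, one_smul, two_smul]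
    abel
  have h2 : (1 + d • B) * (1 + d • B) = (2 : ℂ) • (1 + d • B) := by
    rw [mul_add, add_mul, add_mul, smul_mul_smul_comm, hB, hd, one_mul, mul_one, one_mul, one_smul, two_smul]
    abel
  have h3 : (1 + e • A) * (1 + d • B) = (1 + d • B) * (1 + e • A) := by
    rw [mul_add, add_mul, add_mul, mul_add, add_mul, add_mul, smul_mul_smul_comm, smul_mul_smul_comm, hAB, mul_comm e d]
    simp only [one_mul, mul_one]
    abel
  rw [smul_mul_smul_comm]
  have h4 : (1 + e • A) * (1 + d • B) * ((1 + e • A) * (1 + d • B)) = (4 : ℂ) • ((1 + e • A) * (1 + d • B)) := by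
    calc (1 + e • A) * (1 + d • B) * ((1 + e • A) * (1 + d • B))
        = (1 + e • A) * ((1 + d • B) * (1 + e • A)) * (1 + d • B) := by simp only [mul_assoc]
      _ = (1 + e • A) * ((1 + e • A) * (1 + d • B)) * (1 + d • B) := by rw [h3]
      _ = ((1 + e • A) * (1 + e • A)) * ((1 + d • B) * (1 + d • B)) := by simp only [mul_assoc]
      _ = (4 : ℂ) • ((1 + e • A) * (1 + d • B)) := by
        rw [h1, h2, smul_mul_smul_comm]
        norm_num
  rw [h4, smul_smul]
  norm_num

/-- **The bound**: `a, b` generate a four-group with conjugate involutions, centralized by a subgroup `K ∋ z` without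
representations of degree two, `z a`, `z b`, `z a b` are conjugate to `a`. -/
theorem minDeg_nine {G : Type*} [Group G] [IsSimpleGroup G] {z a b : G} {K : Subgroup G} (hK : MinDeg K 3)
    (hzK : z ∈ K) (hz1 : z ≠ 1) (hz : z * z = 1) (ha : a * a = 1) (hb : b * b = 1) (hab : a * b = b * a)
    (hKa : ∀ k ∈ K, k * a = a * k) (hKb : ∀ k ∈ K, k * b = b * k) (hcb : IsConj a b) (hcab : IsConj a (a * b))
    (hza : IsConj a (z * a)) (hzb : IsConj a (z * b)) (hzab : IsConj a (z * (a * b))) : MinDeg G 9 := by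
  intro M _ _ _ ρ hρ
  by_contra hlt
  push Not at hlt
  have hchar : ∀ {x y : G}, IsConj x y → LinearMap.trace ℂ M (ρ x) = LinearMap.trace ℂ M (ρ y) := by
    intro x y hxy
    obtain ⟨c, rfl⟩ := isConj_iff.1 hxy
    have h1 : ρ (c * x * c⁻¹) = ρ c * ρ x * ρ c⁻¹ := by rw [map_mul, map_mul]
    rw [h1, LinearMap.trace_mul_comm, ← mul_assoc, ← map_mul, inv_mul_cancel, map_one, one_mul]
  set t := LinearMap.trace ℂ M (ρ a) with ht
  have htb : LinearMap.trace ℂ M (ρ b) = t := (hchar hcb).symm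
  have htab : LinearMap.trace ℂ M (ρ a * ρ b) = t := by rw [← map_mul]; exact (hchar hcab).symm
  have htza : LinearMap.trace ℂ M (ρ z * ρ a) = t := by rw [← map_mul]; exact (hchar hza).symm
  have htzb : LinearMap.trace ℂ M (ρ z * ρ b) = t := by rw [← map_mul]; exact (hchar hzb).symm
  have htzab : LinearMap.trace ℂ M (ρ z * (ρ a * ρ b)) = t := by
    rw [← map_mul, ← map_mul]; exact (hchar hzab).symm
  have hA : ρ a * ρ a = 1 := by rw [← map_mul, ha, map_one]
  have hB : ρ b * ρ b = 1 := by rw [← map_mul, hb, map_one]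
  have hAB : ρ a * ρ b = ρ b * ρ a := by rw [← map_mul, hab, map_mul]
  let P : ℂ → ℂ → End ℂ M := fun e d => (4⁻¹ : ℂ) • ((1 + e • ρ a) * (1 + d • ρ b))
  have hPdef : ∀ e d, P e d = (4⁻¹ : ℂ) • (1 + e • ρ a + d • ρ b + (e * d) • (ρ a * ρ b)) := by
    intro e d
    show (4⁻¹ : ℂ) • ((1 + e • ρ a) * (1 + d • ρ b)) = _
    rw [mul_add, add_mul, add_mul, smul_mul_smul_comm]
    simp only [one_mul, mul_one]
    congr 1
    abel
  have hPP : ∀ {e d : ℂ}, e * e = 1 → d * d = 1 → P e d * P e d = P e d := fun he hd => idem4 hA hB hAB he hd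
  have hPt : ∀ e d : ℂ, LinearMap.trace ℂ M (P e d) = 4⁻¹ * (finrank ℂ M + (e + d + e * d) * t) := by
    intro e d
    rw [hPdef, map_smul, map_add, map_add, map_add, map_smul, map_smul, map_smul, htb, htab, LinearMap.trace_one]
    simp only [smul_eq_mul]
    ring
  -- dimensions
  have e1 := hPt 1 (-1)
  have e0 := hPt 1 1
  rw [trace_idem (hPP (by norm_num) (by norm_num))] at e1 e0
  have hsum : (finrank ℂ (LinearMap.range (P 1 1)) : ℂ) + 3 * finrank ℂ (LinearMap.range (P 1 (-1))) = finrank ℂ M := by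
    rw [e1, e0]; ring
  have hsum' : finrank ℂ (LinearMap.range (P 1 1)) + 3 * finrank ℂ (LinearMap.range (P 1 (-1))) = finrank ℂ M := by
    exact_mod_cast hsum
  have hsmall : ∀ {e d : ℂ}, e * e = 1 → d * d = 1 → e + d + e * d = -1 → finrank ℂ (LinearMap.range (P e d)) < 3 := by
    intro e d he hd hed
    have h1 := hPt e d
    rw [trace_idem (hPP he hd), hed] at h1
    have h2 : (finrank ℂ (LinearMap.range (P e d)) : ℂ) = finrank ℂ (LinearMap.range (P 1 (-1))) := by
      rw [h1, e1]; ring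
    have h3 : finrank ℂ (LinearMap.range (P e d)) = finrank ℂ (LinearMap.range (P 1 (-1))) := by exact_mod_cast h2
    omega
  have hfix : ∀ {e d : ℂ}, e * e = 1 → d * d = 1 → e + d + e * d = -1 → ρ z * P e d = P e d := by
    intro e d he hd hed
    refine mul_eq_of_small hK (ρ.comp K.subtype) ?_ (hsmall he hd hed) ⟨z, hzK⟩
    intro k
    show ρ k * ((4⁻¹ : ℂ) • ((1 + e • ρ a) * (1 + d • ρ b))) = ((4⁻¹ : ℂ) • ((1 + e • ρ a) * (1 + d • ρ b))) * ρ k
    have hka : ρ k * ρ a = ρ a * ρ k := by rw [← map_mul, hKa k k.2, map_mul]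
    have hkb : ρ k * ρ b = ρ b * ρ k := by rw [← map_mul, hKb k k.2, map_mul]
    have c1 : ρ k * (1 + e • ρ a) = (1 + e • ρ a) * ρ k := by
      rw [mul_add, add_mul, mul_one, one_mul, mul_smul_comm, smul_mul_assoc, hka]
    have c2 : ρ k * (1 + d • ρ b) = (1 + d • ρ b) * ρ k := by
      rw [mul_add, add_mul, mul_one, one_mul, mul_smul_comm, smul_mul_assoc, hkb]
    rw [mul_smul_comm, smul_mul_assoc, ← mul_assoc, c1, mul_assoc, c2, mul_assoc]
  have f1 := hfix (e := 1) (d := -1) (by norm_num) (by norm_num) (by norm_num)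
  have f2 := hfix (e := -1) (d := 1) (by norm_num) (by norm_num) (by norm_num)
  have f3 := hfix (e := -1) (d := -1) (by norm_num) (by norm_num) (by norm_num)
  have g : ρ z * (P 1 (-1) + P (-1) 1 + P (-1) (-1)) = P 1 (-1) + P (-1) 1 + P (-1) (-1) := by
    rw [mul_add, mul_add, f1, f2, f3]
  have hS : P 1 (-1) + P (-1) 1 + P (-1) (-1) = (4⁻¹ : ℂ) • ((3 : ℂ) • 1 - ρ a - ρ b - ρ a * ρ b) := by
    rw [hPdef, hPdef, hPdef, ← smul_add, ← smul_add]
    congr 1
    module
  rw [hS, mul_smul_comm, mul_sub, mul_sub, mul_sub, mul_smul_comm, mul_one] at g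
  have g2 := congrArg (LinearMap.trace ℂ M) g
  simp only [map_smul, map_sub, LinearMap.trace_one, smul_eq_mul] at g2
  rw [htza, htzb, htzab, htb, htab, ← ht] at g2
  have h5 : LinearMap.trace ℂ M (ρ z) = finrank ℂ M := by
    linear_combination (4 / 3 : ℂ) * g2
  have h6 : ρ z = 1 := eq_one_of_trace (by rw [← map_mul, hz, map_one]) h5
  obtain ⟨g, hg⟩ := hρ
  have hker : (MonoidHom.ker ρ) = ⊤ := by
    refine ((MonoidHom.normal_ker ρ).eq_bot_or_eq_top).resolve_left fun h => hz1 ?_
    have : z ∈ MonoidHom.ker ρ := MonoidHom.mem_ker.2 h6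
    rw [h] at this
    exact Subgroup.mem_bot.1 this
  apply hg
  have : g ∈ MonoidHom.ker ρ := by rw [hker]; trivial
  exact MonoidHom.mem_ker.1 this

end Cfsg.Agent.H635.CJ
end

-- part: H635/CJ/JTwo
section
/-!
# The nontrivial representations of `J₂` have degree at least nine (helper635)
-/

set_option autoImplicit false

namespace Cfsg.Agent.H635.CJ.JTwo

open Cfsg Subgroup Cfsg.Agent.H122
open Cfsg.Agent.J2Type.Base Cfsg.Agent.J2Type.CentU Cfsg.Agent.J2Type.Cent5

theorem minDeg {G : Type*} [Group G] [Finite G] [IsSimpleGroup G] (h : Spor.IsoJ2 G) : MinDeg G 9 := by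
  obtain ⟨z, u, Q, v, ρ, D⟩ := KFacts.J2.Facts.exists_dat_of h
  obtain ⟨f, U, V, H0, F⟩ := J2Type.CentU.main D.F
  have h60 : Nat.card H0 = 60 := by
    have h1 := J2Type.Order.card_centralizer_u D.F
    rw [F.str.card] at h1
    omega
  obtain ⟨e⟩ := exists_equiv D.F F h60
  have hK : MinDeg H0 3 := H123.AltRow.alt_five.congr e.symm
  -- a second involution of `V`
  obtain ⟨b, hb, hb1, hbu⟩ : ∃ b ∈ V, b ≠ 1 ∧ b ≠ u := by
    classical
    by_contra hcon
    push Not at hcon
    have hsub : (V : Set G) ⊆ ({1, u} : Finset G) := by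
      intro x hx
      by_cases hx1 : x = 1
      · rw [hx1]; simp
      · rw [hcon x hx hx1]; simp
    have h2 : Nat.card V ≤ 2 := by
      have h3 := Nat.card_mono (Finset.finite_toSet ({1, u} : Finset G)) hsub
      refine h3.trans ?_
      rw [Nat.card_coe_set_eq, Set.ncard_coe_finset]
      exact Finset.card_le_two
    rw [F.cardV] at h2
    omega
  have hzU : z ∈ H0 := F.U_le F.zU
  have hne : u * b ≠ 1 := by
    intro h1
    apply hbu
    have h2 := sq_V D.F F F.uV
    exact (mul_left_cancel (h2.trans h1.symm)).symm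
  have hz2 : z * z = 1 := by rw [← pow_two, ← D.F.hz, pow_orderOf_eq_one]
  have hzc : ∀ x ∈ V, x ≠ 1 → IsConj u (z * x) := by
    intro x hx hx1
    have hcx : x * z = z * x := V_comm D.F F h60 hx hzU
    have hzx1 : z * x ≠ 1 := by
      intro h1
      apply hx1
      refine V_inf_H0 F hx ?_
      rw [eq_inv_of_mul_eq_one_right h1]
      exact H0.inv_mem hzU
    have h2 : orderOf (z * x) = 2 := by
      apply orderOf_eq_prime _ hzx1
      rw [pow_two]
      calc z * x * (z * x) = z * (x * z) * x := by group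
        _ = (z * z) * (x * x) := by rw [hcx]; group
        _ = 1 := by rw [hz2, sq_V D.F F hx, one_mul]
    rcases D.F.cover _ h2 with h3 | h3
    · exfalso
      apply hx1
      refine V_inf_H0 F hx ?_
      have h4 : z * x * u = u * (z * x) := by
        have h5 : z * u = u * z := D.F.comm
        have h6 : x * u = u * x := comm_V D.F F hx F.uV
        rw [mul_assoc, h6, ← mul_assoc, h5, mul_assoc]
      have h7 := F.str.z_mem _ h3 h4
      have h8 : x = z⁻¹ * (z * x) := by group
      rw [h8]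
      exact H0.mul_mem (H0.inv_mem hzU) h7
    · exact h3
  refine minDeg_nine (z := z) (a := u) (b := b) hK hzU ?_ hz2 (sq_V D.F F F.uV) (sq_V D.F F hb)
    (comm_V D.F F F.uV hb) (fun k hk => (V_comm D.F F h60 F.uV hk).symm) (fun k hk => (V_comm D.F F h60 hb hk).symm)
    (isConj_of_mem_V D.F F hb hb1) (isConj_of_mem_V D.F F (V.mul_mem F.uV hb) hne) ?_ (hzc b hb hb1)
    (hzc _ (V.mul_mem F.uV hb) hne)
  · intro h1
    have := D.F.hz
    rw [h1, orderOf_one] at this
    omega
  · refine hzc u F.uV ?_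
    intro h1
    have := D.F.hu
    rw [h1, orderOf_one] at this
    omega

end Cfsg.Agent.H635.CJ.JTwo
end
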